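import Mathlib
import Groth.Prelude.Def_CAlg2
import Groth.Agent.Unibranch.Radicial

/-!
# A criterion for geometrically unibranch local rings

A local ring `R` with `R_red` a domain is geometrically unibranch as soon as two maps from the
normalisation of `R_red` to a field that agree on `R` and kill its maximal ideal are equal.
-/

set_option autoImplicit false
set_option linter.style.haveILetI false
set_option backward.isDefEq.respectTransparency false
set_option backward.defeqAttrib.useBackward true

open IsLocalRing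
open scoped TensorProduct

universe u

namespace Groth.Agent.GeomUniPoly

open Groth.Agent.Unibranch (toNormRed isIntegral_normRed)

variable (R : Type u) [CommRing R] [IsLocalRing R]

theorem isGeomUnibranch_of_closed (hdom : IsDomain (CAlg2.red R))
    (h : ∀ (F : Type u) [Field F] (f g : CAlg2.normRed R →+* F),
      f.comp (toNormRed R) = g.comp (toNormRed R) →
      (∀ r ∈ maximalIdeal R, f (toNormRed R r) = 0) → f = g) :
    CAlg2.IsGeomUnibranch R := by
  let N := CAlg2.normRed R
  letI : Algebra R N := (toNormRed R).toAlgebra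
  haveI : Algebra.IsIntegral R N := ⟨isIntegral_normRed R⟩
  have hk : ∀ (m : Ideal N) [m.IsMaximal], ∀ r ∈ maximalIdeal R,
      (Ideal.Quotient.mk m).comp (toNormRed R) r = 0 := by
    intro m hm r hr
    refine Ideal.Quotient.eq_zero_iff_mem.mpr ?_
    show r ∈ m.comap (algebraMap R N)
    rwa [IsLocalRing.eq_maximalIdeal (Ideal.isMaximal_comap_of_isIntegral_of_isMaximal m)]
  haveI : IsLocalRing N := by
    obtain ⟨m, hm⟩ := Ideal.exists_maximal N
    refine IsLocalRing.of_unique_max_ideal ⟨m, hm, fun m' hm' => ?_⟩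
    haveI := hm; haveI := hm'
    letI : Field (N ⧸ m) := Ideal.Quotient.field m
    letI : Field (N ⧸ m') := Ideal.Quotient.field m'
    letI : Algebra (ResidueField R) (N ⧸ m) :=
      (Ideal.Quotient.lift (maximalIdeal R) _ (hk m)).toAlgebra
    letI : Algebra (ResidueField R) (N ⧸ m') :=
      (Ideal.Quotient.lift (maximalIdeal R) _ (hk m')).toAlgebra
    let T := (N ⧸ m) ⊗[ResidueField R] (N ⧸ m')
    haveI : Nontrivial T := Algebra.TensorProduct.nontrivial_of_algebraMap_injective_of_flat_left _ _ _
      (RingHom.injective _)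
    obtain ⟨t, ht⟩ := Ideal.exists_maximal T
    letI : Field (T ⧸ t) := Ideal.Quotient.field t
    let a : N ⧸ m →+* T ⧸ t :=
      (Ideal.Quotient.mk t).comp Algebra.TensorProduct.includeLeftRingHom
    let b : N ⧸ m' →+* T ⧸ t :=
      (Ideal.Quotient.mk t).comp
        (Algebra.TensorProduct.includeRight (R := ResidueField R) (A := N ⧸ m)).toRingHom
    have hab : ∀ c, a (algebraMap (ResidueField R) _ c) = b (algebraMap (ResidueField R) _ c) :=
      fun c => congrArg (Ideal.Quotient.mk t)
        ((Algebra.TensorProduct.includeLeft.commutes c).trans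
          (Algebra.TensorProduct.includeRight.commutes c).symm)
    have he := h (T ⧸ t) (a.comp (Ideal.Quotient.mk m)) (b.comp (Ideal.Quotient.mk m'))
      (RingHom.ext fun r => hab (residue R r))
      (fun r hr => (congrArg a (hk m r hr)).trans (map_zero a))
    have h1 : RingHom.ker (a.comp (Ideal.Quotient.mk m)) = m := by
      rw [← RingHom.comap_ker, (RingHom.injective_iff_ker_eq_bot a).mp a.injective,
        ← RingHom.ker_eq_comap_bot, Ideal.mk_ker]
    have h2 : RingHom.ker (b.comp (Ideal.Quotient.mk m')) = m' := by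
      rw [← RingHom.comap_ker, (RingHom.injective_iff_ker_eq_bot b).mp b.injective,
        ← RingHom.ker_eq_comap_bot, Ideal.mk_ker]
    exact h2.symm.trans ((congrArg RingHom.ker he.symm).trans h1)
  refine ⟨⟨hdom, ‹IsLocalRing N›⟩, ?_⟩
  intro m' hm'
  letI : Field (N ⧸ m') := Ideal.Quotient.field m'
  show ∀ x : N ⧸ m', ∃ n : ℕ, x ^ ringExpChar (N ⧸ m') ^ n ∈
    ((Ideal.Quotient.mk m').comp (toNormRed R)).range
  intro x
  letI : Algebra (ResidueField R) (N ⧸ m') :=
    (Ideal.Quotient.lift (maximalIdeal R) _ (hk m')).toAlgebra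
  haveI : IsPurelyInseparable (ResidueField R) (N ⧸ m') := by
    rw [isPurelyInseparable_iff_subsingleton_emb]
    refine ⟨fun f g => AlgHom.coe_ringHom_injective (Ideal.Quotient.ringHom_ext ?_)⟩
    refine h _ _ _ (RingHom.ext fun r =>
      (f.commutes (residue R r)).trans (g.commutes (residue R r)).symm) fun r hr => ?_
    exact (congrArg f.toRingHom (hk m' r hr)).trans (map_zero f.toRingHom)
  haveI : ExpChar (ResidueField R) (ringExpChar (N ⧸ m')) :=
    ((algebraMap (ResidueField R) (N ⧸ m')).expChar_iff (RingHom.injective _) _).mpr inferInstance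
  obtain ⟨n, y, hy⟩ := IsPurelyInseparable.pow_mem (ResidueField R) (ringExpChar (N ⧸ m')) x
  obtain ⟨r, rfl⟩ := IsLocalRing.residue_surjective (R := R) y
  exact ⟨n, r, hy⟩

/-- The defining property of a geometrically unibranch local ring, as separation of points. -/
theorem ringHom_ext_of_isGeomUnibranch (hR : CAlg2.IsGeomUnibranch R) (F : Type u) [Field F]
    (f g : CAlg2.normRed R →+* F) (hfg : f.comp (toNormRed R) = g.comp (toNormRed R))
    (hm : ∀ r ∈ maximalIdeal R, f (toNormRed R r) = 0) : f = g := by
  obtain ⟨⟨hdom, hloc⟩, hpi⟩ := hR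
  let N := CAlg2.normRed R
  haveI : IsLocalRing N := hloc
  have hker : ∀ e : N →+* F, e.comp (toNormRed R) = f.comp (toNormRed R) →
      RingHom.ker e = maximalIdeal N := by
    intro e he
    haveI : (RingHom.ker e).IsPrime := RingHom.ker_isPrime e
    refine IsLocalRing.eq_maximalIdeal (Ideal.isMaximal_of_isIntegral_of_isMaximal_comap'
      (toNormRed R) (isIntegral_normRed R) _ ?_)
    rw [RingHom.comap_ker, he]
    suffices RingHom.ker (f.comp (toNormRed R)) = maximalIdeal R by
      rw [this]; exact maximalIdeal.isMaximal R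
    haveI : (RingHom.ker (f.comp (toNormRed R))).IsPrime := RingHom.ker_isPrime _
    exact le_antisymm (IsLocalRing.le_maximalIdeal Ideal.IsPrime.ne_top') fun r hr => hm r hr
  letI : Field (N ⧸ maximalIdeal N) := Ideal.Quotient.field _
  let F₁ : N ⧸ maximalIdeal N →+* F :=
    Ideal.Quotient.lift _ f fun z hz => by rwa [← hker f rfl, RingHom.mem_ker] at hz
  let F₂ : N ⧸ maximalIdeal N →+* F :=
    Ideal.Quotient.lift _ g fun z hz => by rwa [← hker g hfg.symm, RingHom.mem_ker] at hz
  refine RingHom.ext fun z => ?_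
  obtain ⟨n, r, hr⟩ := hpi (maximalIdeal N) (Ideal.Quotient.mk _ z)
  haveI : ExpChar F (ringExpChar (N ⧸ maximalIdeal N)) :=
    expChar_of_injective_ringHom F₁.injective _
  refine iterateFrobenius_inj F (ringExpChar (N ⧸ maximalIdeal N)) n ?_
  simp only [iterateFrobenius_def]
  show F₁ (Ideal.Quotient.mk _ z) ^ _ = F₂ (Ideal.Quotient.mk _ z) ^ _
  rw [← map_pow F₁, ← map_pow F₂, ← hr]
  exact RingHom.congr_fun hfg r

end Groth.Agent.GeomUniPoly
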