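import Mathlib
import Groth.Agent.GeomUniPoly.Criterion
import Groth.Agent.ClosedBetween.Valuation

/-!
# Polynomial rings over geometrically unibranch local rings
-/

set_option autoImplicit false
set_option linter.style.haveILetI false
set_option backward.isDefEq.respectTransparency false
set_option backward.defeqAttrib.useBackward true

open IsLocalRing MvPolynomial

universe u

namespace Groth.Agent.GeomUniPoly

open Groth.Agent.Unibranch (toNormRed isIntegral_normRed)

/-- A polynomial ring over an integrally closed domain in finitely many variables is integrally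
closed. -/
theorem isIntegrallyClosed_mvPolynomial (R : Type u) [CommRing R] [IsDomain R]
    [IsIntegrallyClosed R] (σ : Type*) [Finite σ] : IsIntegrallyClosed (MvPolynomial σ R) := by
  haveI := ClosedBetween.isIntegrallyClosed_mvPolynomial R (Nat.card σ)
  exact IsIntegrallyClosed.of_equiv
    (MvPolynomial.renameEquiv R (Finite.equivFin σ).symm).toRingEquiv

variable (A : Type u) [CommRing A] [IsLocalRing A] (σ : Type*) [Finite σ]

/-- The integral extension `D[T] → D'[T]` of polynomial rings. -/
theorem isIntegralElem_map {D D' : Type u} [CommRing D] [CommRing D'] (j : D →+* D')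
    (hj : j.IsIntegral) (p : MvPolynomial σ D') : (MvPolynomial.map j).IsIntegralElem p := by
  induction p using MvPolynomial.induction_on with
  | C a =>
    obtain ⟨P, hP, hP0⟩ := hj a
    refine ⟨P.map C, hP.map C, ?_⟩
    rw [Polynomial.eval₂_map, MvPolynomial.map_comp_C, ← Polynomial.hom_eval₂, hP0, map_zero]
  | add p q hp hq => exact RingHom.IsIntegralElem.add _ hp hq
  | mul_X p i hp =>
    refine RingHom.IsIntegralElem.mul _ hp ?_
    have := (MvPolynomial.map j (σ := σ)).isIntegralElem_map (x := X i)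
    rwa [MvPolynomial.map_X] at this

/-- Extending an embedding of `D[T]` into a field to the polynomial ring over an integral
extension of `D` inside its fraction field. -/
theorem exists_extend {D D' K F₀ : Type u} [CommRing D] [IsDomain D] [CommRing D'] [IsDomain D']
    [Field K] [Algebra D K] [IsFractionRing D K] [Field F₀] (j₀ : D →+* D') (hj₀ : j₀.IsIntegral)
    (e : D' →+* K) (he : ∀ d, e (j₀ d) = algebraMap D K d) (θF : MvPolynomial σ D →+* F₀)
    (hθF : Function.Injective θF) :
    ∃ ψ : MvPolynomial σ D' →+* F₀, Function.Injective ψ ∧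
      ∀ p, ψ (MvPolynomial.map j₀ p) = θF p := by
  have hg : Function.Injective (θF.comp C) := hθF.comp (MvPolynomial.C_injective σ D)
  let φ : K →+* F₀ := IsFractionRing.lift (g := θF.comp C) hg
  let ψ : MvPolynomial σ D' →+* F₀ := eval₂Hom (φ.comp e) fun i => θF (X i)
  have hψj : ∀ p, ψ (MvPolynomial.map j₀ p) = θF p := by
    intro p
    refine RingHom.congr_fun (f := ψ.comp (MvPolynomial.map j₀))
      (MvPolynomial.ringHom_ext (fun d => ?_) fun i => ?_) p
    · show ψ (MvPolynomial.map _ (C d)) = θF (C d)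
      rw [MvPolynomial.map_C]
      refine (eval₂Hom_C _ _ _).trans ?_
      show φ (e (j₀ d)) = θF (C d)
      rw [he]
      exact IsFractionRing.lift_algebraMap hg d
    · show ψ (MvPolynomial.map _ (X i)) = θF (X i)
      rw [MvPolynomial.map_X]
      exact eval₂Hom_X' _ _ i
  refine ⟨ψ, ?_, hψj⟩
  haveI : (RingHom.ker ψ).IsPrime := RingHom.ker_isPrime ψ
  rw [RingHom.injective_iff_ker_eq_bot]
  letI : Algebra (MvPolynomial σ D) (MvPolynomial σ D') := (MvPolynomial.map j₀).toAlgebra
  haveI : Algebra.IsIntegral (MvPolynomial σ D) (MvPolynomial σ D') :=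
    ⟨isIntegralElem_map σ _ hj₀⟩
  refine Ideal.eq_bot_of_comap_eq_bot (R := MvPolynomial σ D) (le_bot_iff.mp fun p hp => ?_)
  exact Ideal.mem_bot.mpr (hθF (((hψj p).symm.trans hp).trans (map_zero θF).symm))

/-- An element integral over a localisation of `B` is, up to a denominator, in a given integrally
closed domain with the same fraction field. -/
theorem exists_mul_eq {B R E F₀ : Type*} [CommRing B] [CommRing R] [Algebra B R]
    (M : Submonoid B) [IsLocalization M R] [CommRing E] [IsDomain E] [IsIntegrallyClosed E]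
    [Field F₀] [Algebra R F₀] (ψ : E →+* F₀) (hψ : Function.Injective ψ) (k : B →+* E)
    (hk : ∀ b, ψ (k b) = algebraMap R F₀ (algebraMap B R b))
    (hfrac : ∀ x : F₀, ∃ a b : B, x = algebraMap R F₀ (algebraMap B R a) /
      algebraMap R F₀ (algebraMap B R b))
    (z : F₀) (hz : IsIntegral R z) :
    ∃ s ∈ M, ∃ w, algebraMap R F₀ (algebraMap B R s) * z = ψ w := by
  letI : Algebra E F₀ := ψ.toAlgebra
  haveI : IsFractionRing E F₀ := by
    haveI : FaithfulSMul E F₀ := (faithfulSMul_iff_algebraMap_injective _ _).mpr hψ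
    refine IsFractionRing.of_field _ _ fun x => ?_
    obtain ⟨a, b, rfl⟩ := hfrac x
    exact ⟨k a, k b, by rw [← hk, ← hk]; rfl⟩
  letI : Algebra B F₀ := ((algebraMap R F₀).comp (algebraMap B R)).toAlgebra
  haveI : IsScalarTower B R F₀ := IsScalarTower.of_algebraMap_eq fun _ => rfl
  obtain ⟨⟨s, hs⟩, hsz⟩ := IsIntegral.exists_multiple_integral_of_isLocalization M z hz
  obtain ⟨P, hP, hP0⟩ := hsz
  have hint : IsIntegral E ((⟨s, hs⟩ : M) • z) := by
    refine ⟨P.map k, hP.map _, ?_⟩
    rw [Polynomial.eval₂_map, show (algebraMap E F₀).comp k = algebraMap B F₀ from RingHom.ext hk]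
    exact hP0
  obtain ⟨w, hw⟩ := IsIntegrallyClosed.isIntegral_iff.mp hint
  refine ⟨s, hs, w, ?_⟩
  rw [show ψ w = _ from hw, Submonoid.smul_def, Algebra.smul_def]
  rfl

/-- The normalisation of a domain is integrally closed. -/
theorem isIntegrallyClosed_normalization (D : Type u) [CommRing D] [IsDomain D] :
    IsIntegrallyClosed (integralClosure D (FractionRing D)) :=
  integralClosure.isIntegrallyClosedOfFiniteExtension (FractionRing D)

theorem isGeomUnibranch_mvPolynomial (hA : CAlg2.IsGeomUnibranch A)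
    (q : Ideal (MvPolynomial σ A)) [q.IsPrime] (hq : q.comap C = maximalIdeal A)
    (R : Type u) [CommRing R] [IsLocalRing R] [Algebra (MvPolynomial σ A) R]
    [IsLocalization.AtPrime R q] : CAlg2.IsGeomUnibranch R := by
  classical
  have hA' := hA
  obtain ⟨⟨hD, hloc⟩, -⟩ := hA
  haveI : IsDomain (CAlg2.red A) := hD
  let D := CAlg2.red A
  let D' := CAlg2.normRed A
  haveI : IsLocalRing D' := hloc
  let B := MvPolynomial σ A
  let π : B →+* MvPolynomial σ D := MvPolynomial.map (Ideal.Quotient.mk (nilradical A))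
  have hπ : Function.Surjective π :=
    MvPolynomial.map_surjective _ Ideal.Quotient.mk_surjective
  have hnil : ∀ b : B, IsNilpotent b ↔ π b = 0 := by
    intro b
    refine ⟨fun h => (h.map π).eq_zero, fun h => MvPolynomial.isNilpotent_iff.mpr fun d => ?_⟩
    have h' := congrArg (MvPolynomial.coeff d) h
    rw [MvPolynomial.coeff_map, MvPolynomial.coeff_zero] at h'
    exact Ideal.Quotient.eq_zero_iff_mem.mp h'
  have hπq : ∀ s : B, s ∉ q → π s ≠ 0 := fun s hs h0 =>
    hs (Ideal.IsPrime.mem_of_pow_mem inferInstance _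
      (((hnil s).mpr h0).choose_spec ▸ q.zero_mem))
  -- the map to `R_red`
  let θ₀ : B →+* CAlg2.red R := (Ideal.Quotient.mk (nilradical R)).comp (algebraMap B R)
  have hθ₀ : ∀ b, θ₀ b = 0 ↔ π b = 0 := by
    intro b
    refine ⟨fun h => ?_, fun h => Ideal.Quotient.eq_zero_iff_mem.mpr (((hnil b).mpr h).map _)⟩
    obtain ⟨n, hn⟩ := Ideal.Quotient.eq_zero_iff_mem.mp h
    rw [← map_pow] at hn
    obtain ⟨⟨s, hs⟩, hsb⟩ := (IsLocalization.map_eq_zero_iff q.primeCompl R _).mp hn
    have h0 : π s * π b ^ n = 0 := by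
      rw [← map_pow, ← map_mul]
      exact (congrArg π hsb).trans (map_zero π)
    exact eq_zero_of_pow_eq_zero ((mul_eq_zero.mp h0).resolve_left (hπq s hs))
  let θ : MvPolynomial σ D →+* CAlg2.red R :=
    π.liftOfSurjective hπ ⟨θ₀, fun b hb => (hθ₀ b).mpr hb⟩
  have hθ : ∀ b, θ (π b) = θ₀ b := π.liftOfRightInverse_comp_apply _ _ _
  have hθinj : Function.Injective θ := by
    refine (injective_iff_map_eq_zero θ).mpr fun x hx => ?_
    obtain ⟨b, rfl⟩ := hπ x
    exact (hθ₀ b).mp ((hθ b).symm.trans hx)
  have hunit : ∀ s : B, s ∉ q → IsUnit (θ (π s)) := fun s hs => by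
    rw [hθ]
    exact (IsLocalization.map_units R (⟨s, hs⟩ : q.primeCompl)).map (Ideal.Quotient.mk (nilradical R))
  have hsurj : ∀ x : CAlg2.red R, ∃ b s : B, s ∉ q ∧ x * θ (π s) = θ (π b) := by
    intro x
    obtain ⟨r, rfl⟩ := Ideal.Quotient.mk_surjective x
    obtain ⟨⟨b, s, hs⟩, hb⟩ := IsLocalization.surj q.primeCompl r
    exact ⟨b, s, hs, by rw [hθ, hθ]; exact (map_mul _ _ _).symm.trans (congrArg _ hb)⟩
  haveI : Nontrivial (CAlg2.red R) := Ideal.Quotient.nontrivial_iff.mpr fun h => not_isNilpotent_one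
    (mem_nilradical.mp (show (1 : R) ∈ nilradical R by rw [h]; exact Submodule.mem_top))
  haveI : NoZeroDivisors (CAlg2.red R) := by
    refine ⟨fun {x y} hxy => ?_⟩
    obtain ⟨b, s, hs, hb⟩ := hsurj x
    obtain ⟨c, t, ht, hc⟩ := hsurj y
    have h0 : π b * π c = 0 := by
      refine hθinj ?_
      rw [map_mul, map_zero, ← hb, ← hc]
      calc x * θ (π s) * (y * θ (π t)) = (x * y) * (θ (π s) * θ (π t)) := by ring
        _ = 0 := by rw [hxy, zero_mul]
    rcases mul_eq_zero.mp h0 with h | h
    · exact Or.inl ((hunit s hs).mul_left_eq_zero.mp (by rw [hb, h, map_zero]))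
    · exact Or.inr ((hunit t ht).mul_left_eq_zero.mp (by rw [hc, h, map_zero]))
  haveI : IsDomain (CAlg2.red R) := NoZeroDivisors.to_isDomain _
  refine isGeomUnibranch_of_closed R inferInstance ?_
  -- the map `D'[T] → Frac (R_red)`
  let F₀ := FractionRing (CAlg2.red R)
  let θF : MvPolynomial σ D →+* F₀ := (algebraMap (CAlg2.red R) F₀).comp θ
  have hθF : Function.Injective θF := (IsFractionRing.injective _ F₀).comp hθinj
  let j : MvPolynomial σ D →+* MvPolynomial σ D' := MvPolynomial.map (algebraMap D D')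
  obtain ⟨ψ, hψinj, hψj⟩ : ∃ ψ : MvPolynomial σ D' →+* F₀, Function.Injective ψ ∧
      ∀ p, ψ (j p) = θF p :=
    exists_extend σ (K := FractionRing D) (algebraMap D D')
      (fun x => Algebra.IsIntegral.isIntegral x) (integralClosure D (FractionRing D)).val.toRingHom
      (fun d => rfl) θF hθF
  have hjint : ∀ p, j.IsIntegralElem p :=
    isIntegralElem_map σ _ fun x => Algebra.IsIntegral.isIntegral x
  have hψint : ∀ p, ψ p ∈ integralClosure (CAlg2.red R) F₀ := by
    intro p
    obtain ⟨P, hP, hP0⟩ := hjint p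
    refine ⟨P.map θ, hP.map θ, ?_⟩
    rw [Polynomial.eval₂_map, ← map_zero ψ, ← hP0, Polynomial.hom_eval₂]
    congr 1
    exact RingHom.ext fun x => (hψj x).symm
  let N := CAlg2.normRed R
  let ι : MvPolynomial σ D' →+* N :=
    ψ.codRestrict (integralClosure (CAlg2.red R) F₀).toSubring hψint
  have hι : ∀ b, ι (j (π b)) = toNormRed R (algebraMap B R b) := fun b =>
    Subtype.ext ((hψj _).trans (congrArg (algebraMap (CAlg2.red R) F₀) (hθ b)))
  -- every element of the normalisation is a fraction
  haveI : IsIntegrallyClosed D' := isIntegrallyClosed_normalization D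
  haveI := isIntegrallyClosed_mvPolynomial D' σ
  haveI : Algebra.IsIntegral R (CAlg2.red R) :=
    Algebra.isIntegral_of_surjective Ideal.Quotient.mk_surjective
  have hgen : ∀ z : N, ∃ s : B, s ∉ q ∧ ∃ w, toNormRed R (algebraMap B R s) * z = ι w := by
    intro z
    have hRF : ∀ r : R, algebraMap R F₀ r =
        algebraMap (CAlg2.red R) F₀ (Ideal.Quotient.mk (nilradical R) r) :=
      fun r => IsScalarTower.algebraMap_apply R (CAlg2.red R) F₀ r
    have hk : ∀ b, ψ ((j.comp π) b) = algebraMap R F₀ (algebraMap B R b) :=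
      fun b => ((hψj _).trans (congrArg (algebraMap (CAlg2.red R) F₀) (hθ b))).trans (hRF _).symm
    obtain ⟨s, hs, w, hw⟩ := exists_mul_eq (B := B) (R := R) (E := MvPolynomial σ D') (F₀ := F₀)
      q.primeCompl ψ hψinj (j.comp π) hk
      (fun x => by
        obtain ⟨a, b, -, rfl⟩ := IsFractionRing.div_surjective (CAlg2.red R) x
        obtain ⟨a₁, a₂, ha₂, ha⟩ := hsurj a
        obtain ⟨b₁, b₂, hb₂, hb⟩ := hsurj b
        refine ⟨a₁ * b₂, b₁ * a₂, ?_⟩
        rw [hRF, hRF]
        show _ = algebraMap (CAlg2.red R) F₀ (θ₀ _) / algebraMap (CAlg2.red R) F₀ (θ₀ _)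
        rw [← hθ, ← hθ, map_mul π, map_mul π, map_mul θ, map_mul θ, ← ha, ← hb, map_mul, map_mul,
          map_mul, map_mul]
        have h1 : algebraMap (CAlg2.red R) F₀ (θ (π a₂)) ≠ 0 :=
          ((hunit a₂ ha₂).map _).ne_zero
        have h2 : algebraMap (CAlg2.red R) F₀ (θ (π b₂)) ≠ 0 :=
          ((hunit b₂ hb₂).map _).ne_zero
        refine Eq.symm ?_
        rw [mul_right_comm, mul_div_mul_right _ _ h1, mul_div_mul_right _ _ h2])
      z.1 (isIntegral_trans (R := R) z.1 z.2)
    refine ⟨s, hs, w, Subtype.ext ?_⟩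
    rw [hRF] at hw
    exact hw
  intro F _ f g hfg hm
  have hsep : f.comp ι = g.comp ι := by
    refine MvPolynomial.ringHom_ext (fun d => ?_) fun i => ?_
    · refine RingHom.congr_fun (ringHom_ext_of_isGeomUnibranch A hA' F ((f.comp ι).comp C)
        ((g.comp ι).comp C) (RingHom.ext fun a => ?_) fun a ha => ?_) d
      all_goals
        have e : (C (toNormRed A a) : MvPolynomial σ D') = j (π (C a)) := by
          show _ = MvPolynomial.map _ (MvPolynomial.map _ (C a))
          rw [MvPolynomial.map_C, MvPolynomial.map_C]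
          rfl
      · show f (ι (C (toNormRed A a))) = g (ι (C (toNormRed A a)))
        rw [e, hι]
        exact RingHom.congr_fun hfg _
      · show f (ι (C (toNormRed A a))) = 0
        rw [e, hι]
        refine hm _ ((IsLocalization.AtPrime.to_map_mem_maximal_iff R q _).mpr ?_)
        show a ∈ q.comap C
        rwa [hq]
    · have e : (X i : MvPolynomial σ D') = j (π (X i)) := by
        show _ = MvPolynomial.map _ (MvPolynomial.map _ (X i))
        rw [MvPolynomial.map_X, MvPolynomial.map_X]
      show f (ι (X i)) = g (ι (X i))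
      rw [e, hι]
      exact RingHom.congr_fun hfg _
  refine RingHom.ext fun z => ?_
  obtain ⟨s, hs, w, hw⟩ := hgen z
  have hu : IsUnit (f (toNormRed R (algebraMap B R s))) :=
    ((IsLocalization.map_units R (⟨s, hs⟩ : q.primeCompl)).map (toNormRed R)).map f
  refine hu.mul_left_cancel ?_
  rw [← map_mul, hw]
  conv_rhs => rw [show f (toNormRed R (algebraMap B R s)) = g (toNormRed R (algebraMap B R s))
    from RingHom.congr_fun hfg _, ← map_mul, hw]
  exact RingHom.congr_fun hsep w

/-- The local rings of `Γ[T]` above a prime of `Γ` with geometrically unibranch local ring. -/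
theorem isGeomUnibranch_mvPolynomial_atPrime {Γ : Type u} [CommRing Γ] [Algebra Γ A]
    (p : Ideal Γ) [p.IsPrime] [IsLocalization.AtPrime A p] (hA : CAlg2.IsGeomUnibranch A)
    (q : Ideal (MvPolynomial σ Γ)) [q.IsPrime] (hq : q.comap C = p)
    (R : Type u) [CommRing R] [IsLocalRing R] [Algebra (MvPolynomial σ Γ) R]
    [IsLocalization.AtPrime R q] : CAlg2.IsGeomUnibranch R := by
  letI := MvPolynomial.algebraMvPolynomial (σ := σ) (R := Γ) (S := A)
  let M : Submonoid (MvPolynomial σ Γ) := p.primeCompl.map (C (σ := σ))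
  have hM : M ≤ q.primeCompl := by
    rintro _ ⟨s, hs, rfl⟩ hmem
    exact hs (by rw [← hq]; exact hmem)
  haveI : IsLocalization M (MvPolynomial σ A) := MvPolynomial.isLocalization p.primeCompl A
  letI : Algebra (MvPolynomial σ A) R :=
    IsLocalization.localizationAlgebraOfSubmonoidLe (MvPolynomial σ A) R M q.primeCompl hM
  haveI : IsScalarTower (MvPolynomial σ Γ) (MvPolynomial σ A) R :=
    IsLocalization.localization_isScalarTower_of_submonoid_le (MvPolynomial σ A) R M q.primeCompl hM
  haveI := IsLocalization.isLocalization_of_submonoid_le (MvPolynomial σ A) R M q.primeCompl hM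
  let q' : Ideal (MvPolynomial σ A) := (maximalIdeal R).comap (algebraMap _ R)
  have hq' : q'.comap (algebraMap (MvPolynomial σ Γ) (MvPolynomial σ A)) = q := by
    rw [Ideal.comap_comap, ← IsScalarTower.algebraMap_eq]
    exact IsLocalization.AtPrime.comap_maximalIdeal R q
  have hle : q.primeCompl.map (algebraMap (MvPolynomial σ Γ) (MvPolynomial σ A)) ≤
      q'.primeCompl := by
    rintro _ ⟨s, hs, rfl⟩ hmem
    exact hs (by rw [← hq']; exact hmem)
  haveI : IsLocalization.AtPrime R q' := by
    refine IsLocalization.isLocalization_of_is_exists_mul_mem R _ _ hle fun x => ?_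
    obtain ⟨⟨a, t⟩, hat⟩ := IsLocalization.surj M (x : MvPolynomial σ A)
    refine ⟨algebraMap _ _ (t : MvPolynomial σ Γ), a, fun ha => ?_,
      (hat.symm.trans (mul_comm _ _) :)⟩
    have : algebraMap (MvPolynomial σ Γ) (MvPolynomial σ A) a ∈ q' := by
      rw [← hq'] at ha; exact ha
    rw [← hat] at this
    exact ((inferInstance : q'.IsPrime).mem_or_mem this).elim x.2 fun ht =>
      hM t.2 (by rw [← hq']; exact ht)
  refine isGeomUnibranch_mvPolynomial A σ hA q' ?_ R
  haveI : (q'.comap (C (σ := σ))).IsPrime := inferInstance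
  rw [← IsLocalization.map_under p.primeCompl A (q'.comap C),
    ← IsLocalization.AtPrime.map_eq_maximalIdeal p A]
  congr 1
  show (q'.comap C).comap (algebraMap Γ A) = p
  have hC : (C (σ := σ)).comp (algebraMap Γ A) =
      (algebraMap (MvPolynomial σ Γ) (MvPolynomial σ A)).comp C :=
    RingHom.ext fun a => (MvPolynomial.map_C (algebraMap Γ A) a).symm
  rw [Ideal.comap_comap, hC, ← Ideal.comap_comap, hq', hq]

end Groth.Agent.GeomUniPoly
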