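import Mathlib
import Groth.Agent.GeomUniPoly.Poly

/-!
# Affine space over a geometrically unibranch point
-/

set_option autoImplicit false
set_option linter.style.haveILetI false
set_option backward.isDefEq.respectTransparency false
set_option backward.defeqAttrib.useBackward true

open CategoryTheory AlgebraicGeometry

universe u

namespace Groth.Agent.GeomUniPoly

/-- An open immersion `Spec Γ → X` makes the stalk a localisation of `Γ`. -/
theorem exists_algebra_stalk {Γ : CommRingCat.{u}} {X : Scheme.{u}} (j : Spec Γ ⟶ X)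
    [IsOpenImmersion j] (w : Spec Γ) :
    ∃ _ : Algebra Γ (X.presheaf.stalk (j w)),
      IsLocalization.AtPrime (X.presheaf.stalk (j w)) w.asIdeal := by
  letI S := (Spec Γ).presheaf.stalk w
  letI e : X.presheaf.stalk (j w) ≅ (Spec Γ).presheaf.stalk w := asIso (j.stalkMap w)
  letI : Algebra Γ ((Spec Γ).presheaf.stalk w) := StructureSheaf.stalkAlgebra _ w
  haveI : IsLocalization.AtPrime ((Spec Γ).presheaf.stalk w) w.asIdeal :=
    StructureSheaf.IsLocalization.to_stalk _ w
  let f := (e.commRingCatIsoToRingEquiv.symm.toRingHom).comp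
    (algebraMap Γ ((Spec Γ).presheaf.stalk w))
  letI : Algebra Γ (X.presheaf.stalk (j w)) := f.toAlgebra
  exact ⟨inferInstance, IsLocalization.isLocalization_of_algEquiv w.asIdeal.primeCompl
    (AlgEquiv.ofRingEquiv (f := e.commRingCatIsoToRingEquiv.symm) fun _ => rfl)⟩

theorem isGeomUnibranch_affineSpace {Y : Scheme.{u}} {n : Type u} [Finite n]
    (y' : ↥(AffineSpace n Y))
    (hy : CAlg2.IsGeomUnibranch (Y.presheaf.stalk ((AffineSpace n Y ↘ Y) y'))) :
    CAlg2.IsGeomUnibranch ((AffineSpace n Y).presheaf.stalk y') := by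
  obtain ⟨Γ, j, hj, ⟨a, ha⟩, -⟩ := Scheme.exists_affine_mem_range_and_range_subset
    (X := Y) (U := ⊤) (x := (AffineSpace n Y ↘ Y) y') (by simp)
  haveI := hj
  obtain ⟨z, hz, -⟩ := Scheme.exists_preimage_of_isPullback
    (AffineSpace.isPullback_map (n := n) j) y' a ha.symm
  haveI : IsOpenImmersion (AffineSpace.map n j) :=
    MorphismProperty.of_isPullback (AffineSpace.isPullback_map (n := n) j).flip hj
  let e := AffineSpace.SpecIso n Γ
  let w := e.hom z
  let h := e.inv ≫ AffineSpace.map n j
  haveI : IsOpenImmersion h := inferInstance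
  have hw : h w = y' := by
    rw [← hz]
    show AffineSpace.map n j ((e.hom ≫ e.inv) z) = _
    rw [e.hom_inv_id]
    rfl
  subst hw
  have hb : (AffineSpace n Y ↘ Y) (h w) = j ((Spec.map (CommRingCat.ofHom MvPolynomial.C)) w) := by
    rw [← AffineSpace.SpecIso_inv_over]
    exact congrArg (fun φ => φ w) (show (e.inv ≫ AffineSpace.map n j) ≫ _ = (e.inv ≫ _) ≫ j by
      rw [Category.assoc, AffineSpace.map_over, Category.assoc])
  rw [hb] at hy
  obtain ⟨_, hR⟩ := exists_algebra_stalk h w
  obtain ⟨_, hA⟩ := exists_algebra_stalk j (Spec.map (CommRingCat.ofHom MvPolynomial.C) w)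
  exact isGeomUnibranch_mvPolynomial_atPrime _ n (Γ := Γ)
    (Spec.map (CommRingCat.ofHom MvPolynomial.C) w).asIdeal hy w.asIdeal rfl _

end Groth.Agent.GeomUniPoly
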